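import Groth.Agent.SGA1QuotLib.SymFlat
import Groth.Agent.CohDual.DimVanish
import Mathlib

/-! Finite sets in immersed subschemes of affine schemes and of `Proj`. -/

set_option autoImplicit false
universe u
open CategoryTheory AlgebraicGeometry TopologicalSpace

namespace Groth.Agent.FiniteAffine

theorem exists_affine_of_immersion {X Y : Scheme.{u}} [IsAffine Y] (ι : X ⟶ Y) [IsImmersion ι]
    (E : Set X) (hE : E.Finite) : ∃ U : X.Opens, IsAffineOpen U ∧ E ⊆ U := by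
  set V := ι.coborderRange
  have hfac : ι.liftCoborder ≫ V.ι = ι := Scheme.Hom.liftCoborder_ι ι
  have hmem : ∀ x, ι x ∈ V := fun x => by
    rw [← hfac, Scheme.Hom.comp_apply]; exact (ι.liftCoborder x).2
  obtain ⟨f, hf, hfE⟩ := SGA1QuotLib.exists_avoid (isAffineOpen_top Y) V (ι '' E) (hE.image _)
    (Set.subset_univ _) (by rintro _ ⟨x, -, rfl⟩; exact hmem x)
  have hD : IsAffineOpen (V.ι ⁻¹ᵁ Y.basicOpen f) := by
    rw [← V.ι.isAffineOpen_iff_of_isOpenImmersion, Scheme.Hom.image_preimage_eq_opensRange_inf,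
      Scheme.Opens.opensRange_ι, inf_eq_right.2 hf]
    exact (isAffineOpen_top Y).basicOpen f
  refine ⟨ι.liftCoborder ⁻¹ᵁ V.ι ⁻¹ᵁ Y.basicOpen f, hD.preimage ι.liftCoborder, fun x hx => ?_⟩
  show V.ι (ι.liftCoborder x) ∈ Y.basicOpen f
  rw [← Scheme.Hom.comp_apply, hfac]
  exact hfE ⟨x, hx, rfl⟩

theorem exists_affine_of_immersion_proj {R A : Type u} [CommRing R] [CommRing A] [Algebra R A]
    (𝒜 : ℕ → Submodule R A) [GradedAlgebra 𝒜] {X : Scheme.{u}} (ι : X ⟶ Proj 𝒜) [IsImmersion ι]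
    (E : Set X) (hE : E.Finite) : ∃ U : X.Opens, IsAffineOpen U ∧ E ⊆ U := by
  classical
  let S : Finset (Ideal A) := hE.toFinset.image fun x => (ι x).asHomogeneousIdeal.toIdeal
  obtain ⟨e, f, he, hfe, hf⟩ := CohDual.exists_homogeneous_avoid 𝒜 S fun p hp => by
    obtain ⟨x, -, rfl⟩ := Finset.mem_image.1 hp
    refine ⟨(ι x).isPrime, (ι x).asHomogeneousIdeal.isHomogeneous, ?_⟩
    by_contra hcon
    push Not at hcon
    refine (ι x).not_irrelevant_le fun a ha => ?_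
    show a ∈ (ι x).asHomogeneousIdeal.toIdeal
    rw [← DirectSum.sum_support_decompose 𝒜 a]
    refine Ideal.sum_mem _ fun i _ => ?_
    rcases Nat.eq_zero_or_pos i with rfl | hi
    · have h0 : GradedRing.proj 𝒜 0 a = 0 := (HomogeneousIdeal.mem_irrelevant_iff 𝒜 a).1 ha
      rw [GradedRing.proj_apply] at h0
      rw [h0]
      exact Ideal.zero_mem _
    · exact hcon i _ hi (SetLike.coe_mem _)
  let D : (Proj 𝒜).Opens := Proj.basicOpen 𝒜 f
  have hD : IsAffineOpen D := Proj.isAffineOpen_basicOpen 𝒜 f hfe he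
  haveI : IsAffine (D : Scheme.{u}) := hD
  have hED : ∀ x ∈ E, ι x ∈ D := fun x hx =>
    hf _ (Finset.mem_image.2 ⟨x, hE.mem_toFinset.2 hx, rfl⟩)
  obtain ⟨U, hU, hEU⟩ := exists_affine_of_immersion (ι ∣_ D) ((ι ⁻¹ᵁ D).ι ⁻¹' E)
    (hE.preimage (ι ⁻¹ᵁ D).ι.isOpenEmbedding.injective.injOn)
  exact ⟨(ι ⁻¹ᵁ D).ι ''ᵁ U, hU.image_of_isOpenImmersion _, fun x hx =>
    ⟨⟨x, hED x hx⟩, hEU (show (⟨x, hED x hx⟩ : (ι ⁻¹ᵁ D)).1 ∈ E from hx), rfl⟩⟩

end Groth.Agent.FiniteAffine
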